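import Cfsg.Agent.H704.Enum
import Cfsg.Agent.H808.SmallSylow
import Cfsg.Agent.H175.Eight.L3
import Cfsg.Agent.H664.R1.PSLTwo
import Cfsg.Agent.H664.R1.U3IM
import Cfsg.Agent.H424.DegTools
import Cfsg.Agent.H732.DegSz
import Cfsg.Agent.H113.PSU.Left43
import Cfsg.Agent.H149.PGUGoal
import Cfsg.Agent.H60.HalfPsl
import Cfsg.Agent.H124.SUThreeEig
import Cfsg.Agent.H996.AllSplit
import Cfsg.Agent.H691.StExt
import Cfsg.Agent.H681.DegBasic
import Cfsg.Agent.H234.OutGood
import Cfsg.Agent.S0249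
import Cfsg.Agent.S0252
import Cfsg.Agent.S0253
import Cfsg.Agent.S0254
import Cfsg.Agent.S0256
import Cfsg.Agent.S0495

/-!
# S4906, task LIE-SMALL (helper657)

`lie_small` : an almost simple group with socle `S` of Lie type, all of whose degrees are degrees of `S_n`,
`5 ≤ n ≤ 9`, has socle `A_n`.
-/

set_option autoImplicit false

open Cfsg Cfsg.Agent.H704 Cfsg.Agent.NotCT

namespace Cfsg.Agent.H657.DS

open Cfsg.Agent.H681.DegBasic (mem_charDegrees)

universe u v

/-- every degree of `G` is a degree of `S_n` -/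
def SubD (n : ℕ) (G : Type u) [Group G] : Prop :=
  ∀ ψ : G → ℂ, IsIrrCharacter G ψ → ∃ d, IsDeg n d ∧ ψ 1 = d

theorem SubD.mem {n : ℕ} {G : Type u} [Group G] [Finite G] (h : SubD n G) {c : ℕ} (hc : c ∈ charDegrees G) :
    IsDeg n c := by
  obtain ⟨χ, hχ, hc1⟩ := mem_charDegrees.1 hc
  obtain ⟨d, hd, hd1⟩ := h χ hχ
  rw [hc1] at hd1
  have : c = d := by exact_mod_cast hd1
  rwa [this]

section basic

variable {n : ℕ} {A : Type u} [Group A] [Finite A] (S : Subgroup A) [S.Normal]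

/-- over a degree of `S` -/
theorem SubD.over (h : SubD n A) {c : ℕ} (hc : c ∈ charDegrees S) : ∃ d, IsDeg n d ∧ c ∣ d ∧ d / c ∣ S.index := by
  obtain ⟨d, hd, h1, h2⟩ := H424.DegTools.clifford_up S hc
  exact ⟨d, h.mem hd, h1, h2⟩

/-- the Steinberg character -/
theorem SubD.st (h : SubD n A) [IsSimpleGroup S] {p : ℕ} (hp : p.Prime) (hl : IsLieTypeChar p S) :
    IsDeg n (p ^ (Nat.card S).factorization p) := by
  have := Fact.mk hp
  obtain ⟨χ, hχ, -, hχ1⟩ := H691.StExt.exists_ext S (H996.AllSplit.hasSplit_of_lie hp hl)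
  obtain ⟨Q⟩ := (inferInstance : Nonempty (Sylow p S))
  obtain ⟨d, hd, hd1⟩ := h χ hχ
  have h1 := hχ1 Q
  rw [Q.card_eq_multiplicity] at h1
  have h2 : d = p ^ (Nat.card S).factorization p := by
    have := hd1.symm.trans h1
    exact_mod_cast this
  rwa [← h2]

/-- the type -/
theorem SubD.typ (h : SubD n A) [IsSimpleGroup S] {p : ℕ} (hp : p.Prime) (hl : IsLieTypeChar p S) :
    ∃ (t : Typ) (k : ℕ), t.Valid p k ∧ IsTyp t (p ^ k) S ∧ IsDeg n (p ^ (k * t.N)) := by
  obtain ⟨t, k, hv, ht⟩ := exists_typ hp hl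
  have ho := card_eq hp hv ht
  have h0 := H808.SmallSylow.ordProj_eq hp Nat.card_pos.ne' (dvd_card hp hv ho) (not_dvd_card hp hv ho)
  refine ⟨t, k, hv, ht, ?_⟩
  rw [← h0]
  exact h.st S hp hl

end basic

/-- prime powers at most 216 -/
theorem pa_cases {L : List ℕ} (hL : ∀ m ∈ L, m ≤ 216) {p a : ℕ} (hp : p.Prime) (h : p ^ a ∈ L) (ha : 1 ≤ a) :
    (a = 1 ∧ p ∈ L) ∨ (2 ≤ a ∧ a < 8 ∧ p < 15) := by
  rcases ha.eq_or_lt with rfl | h2
  · left
    rw [pow_one] at h
    exact ⟨rfl, h⟩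
  · right
    have h1 := hL _ h
    have hp2 := hp.two_le
    refine ⟨h2, ?_, ?_⟩
    · by_contra hcon
      have h3 : 2 ^ 8 ≤ p ^ a := (Nat.pow_le_pow_left hp2 8).trans (Nat.pow_le_pow_right (by omega) (by omega))
      omega
    · by_contra hcon
      have h3 : 15 ^ 2 ≤ p ^ a := (Nat.pow_le_pow_left (by omega) 2).trans (Nat.pow_le_pow_right (by omega) h2)
      omega

/-- numbers that are not primes -/
def nonPrimes : List ℕ := [4, 6, 14, 15, 20, 21, 35, 28, 42, 56, 64, 70, 90, 8, 9, 10, 16, 27, 48, 84, 105, 120, 162, 168,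
  189, 216, 1]

theorem not_prime {m : ℕ} (hm : m ∈ nonPrimes) : ¬ m.Prime := by
  simp only [nonPrimes, List.mem_cons, List.not_mem_nil, or_false] at hm
  rcases hm with rfl | rfl | rfl | rfl | rfl | rfl | rfl | rfl | rfl | rfl | rfl | rfl | rfl | rfl | rfl | rfl |
    rfl | rfl | rfl | rfl | rfl | rfl | rfl | rfl | rfl | rfl | rfl <;> norm_num

/-- the check: all prime powers in `L` are `p ^ a`, `(p, a) ∈ C` -/
def chk (L : List ℕ) (C : List (ℕ × ℕ)) : Bool :=
  (L.all fun m => nonPrimes.contains m || C.contains (m, 1)) &&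
  ((List.range 15).all fun p => (List.range 8).all fun a => decide (p < 2) || decide (a < 2) || nonPrimes.contains p ||
    !L.contains (p ^ a) || C.contains (p, a)) && L.all fun m => decide (m ≤ 216)

theorem mem_of_chk {L : List ℕ} {C : List (ℕ × ℕ)} (h : chk L C = true) {p a : ℕ} (hp : p.Prime) (h1 : p ^ a ∈ L)
    (ha : 1 ≤ a) : (p, a) ∈ C := by
  simp only [chk, Bool.and_eq_true, List.all_eq_true, Bool.or_eq_true, decide_eq_true_eq, List.contains_iff_mem,
    List.mem_range, Bool.not_eq_true'] at h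
  obtain ⟨⟨h2, h3⟩, h4⟩ := h
  rcases pa_cases h4 hp h1 ha with ⟨rfl, h5⟩ | ⟨h5, h6, h7⟩
  · rcases h2 p h5 with h6 | h6
    · exact absurd hp (not_prime h6)
    · exact h6
  · rcases h3 p h7 a h6 with (((h8 | h8) | h8) | h8) | h8
    · have := hp.two_le
      omega
    · omega
    · exact absurd hp (not_prime h8)
    · exfalso
      rw [← Bool.not_eq_true, List.contains_iff_mem] at h8
      exact h8 h1
    · exact h8

/-- the defining characteristic -/
theorem pa_deg {n : ℕ} (h5 : 5 ≤ n) (h9 : n ≤ 9) {p a : ℕ} (hp : p.Prime) (h : IsDeg n (p ^ a)) (ha : 1 ≤ a) :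
    (n = 5 ∧ (p, a) ∈ [(5, 1), (2, 2)]) ∨ (n = 6 ∧ (p, a) ∈ [(5, 1), (3, 2), (2, 4)]) ∨
      (n = 8 ∧ (p, a) ∈ [(7, 1), (2, 6)]) ∨ (n = 9 ∧ (p, a) ∈ [(2, 3), (3, 3)]) := by
  interval_cases n
  · exact Or.inl ⟨rfl, mem_of_chk (by decide +kernel) hp (deg5 h) ha⟩
  · exact Or.inr (Or.inl ⟨rfl, mem_of_chk (by decide +kernel) hp (deg6 h) ha⟩)
  · have h1 : (p, a) ∈ [] := mem_of_chk (by decide +kernel) hp (deg7 h) ha
    exact absurd h1 List.not_mem_nil
  · exact Or.inr (Or.inr (Or.inl ⟨rfl, mem_of_chk (by decide +kernel) hp (deg8 h) ha⟩))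
  · exact Or.inr (Or.inr (Or.inr ⟨rfl, mem_of_chk (by decide +kernel) hp (deg9 h) ha⟩))

/-! ### the types -/

theorem typ_mem (p a : ℕ) (C : List (Typ × ℕ)) (h : ∀ t ∈ typs a, ∀ k < a + 1, t.Valid p k → k * t.N = a → (t, k) ∈ C)
    {t : Typ} {k : ℕ} (hv : t.Valid p k) (hk : k * t.N = a) : (t, k) ∈ C := by
  refine h t (mem_typs hv hk) k ?_ hv hk
  have := N_pos hv
  nlinarith

theorem typ_five {t : Typ} {k : ℕ} (hv : t.Valid 5 k) (hk : k * t.N = 1) : (t, k) ∈ [(Typ.L 2, 1)] :=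
  typ_mem 5 1 _ (by decide +kernel) hv hk

theorem typ_seven {t : Typ} {k : ℕ} (hv : t.Valid 7 k) (hk : k * t.N = 1) : (t, k) ∈ [(Typ.L 2, 1)] :=
  typ_mem 7 1 _ (by decide +kernel) hv hk

theorem typ_four {t : Typ} {k : ℕ} (hv : t.Valid 2 k) (hk : k * t.N = 2) : (t, k) ∈ [(Typ.L 2, 2)] :=
  typ_mem 2 2 _ (by decide +kernel) hv hk

theorem typ_nine {t : Typ} {k : ℕ} (hv : t.Valid 3 k) (hk : k * t.N = 2) : (t, k) ∈ [(Typ.L 2, 2)] :=
  typ_mem 3 2 _ (by decide +kernel) hv hk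

theorem typ_16 {t : Typ} {k : ℕ} (hv : t.Valid 2 k) (hk : k * t.N = 4) : (t, k) ∈ [(Typ.L 2, 4)] :=
  typ_mem 2 4 _ (by decide +kernel) hv hk

theorem typ_64 {t : Typ} {k : ℕ} (hv : t.Valid 2 k) (hk : k * t.N = 6) :
    (t, k) ∈ [(Typ.L 2, 6), (Typ.L 3, 2), (Typ.L 4, 1), (Typ.U 3, 2), (Typ.U 4, 1), (Typ.SZ, 3)] :=
  typ_mem 2 6 _ (by decide +kernel) hv hk

theorem typ_8 {t : Typ} {k : ℕ} (hv : t.Valid 2 k) (hk : k * t.N = 3) : (t, k) ∈ [(Typ.L 2, 3), (Typ.L 3, 1)] :=
  typ_mem 2 3 _ (by decide +kernel) hv hk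

theorem typ_27 {t : Typ} {k : ℕ} (hv : t.Valid 3 k) (hk : k * t.N = 3) :
    (t, k) ∈ [(Typ.L 2, 3), (Typ.L 3, 1), (Typ.U 3, 1)] :=
  typ_mem 3 3 _ (by decide +kernel) hv hk

/-! ### `PSU_3(3)` -/

/-- the degrees of `S` below the degrees of `S_9`, `|A : S| ≤ 2` -/
def degC : List ℕ := [1, 8, 27, 28, 42, 48, 56, 70, 4, 14, 21, 24, 35, 60]

theorem mem_degC {c d : ℕ} (hd : d ∈ [1, 8, 27, 28, 42, 48, 56, 70, 84, 105, 120, 162, 168, 189, 216])
    (hc : d = c ∨ d = 2 * c) (h77 : c ≤ 77) : c ∈ degC := by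
  have key : ∀ c < 78, ∀ d ∈ [1, 8, 27, 28, 42, 48, 56, 70, 84, 105, 120, 162, 168, 189, 216], d = c ∨ d = 2 * c →
      c ∈ degC := by
    decide +kernel
  exact key c (by omega) d hd hc

theorem degC_false {c D : ℕ} (hc : c ∈ degC) (hD : D ∈ degC) {e : ℤ} (he : e = 1 ∨ e = -1)
    (h7 : (7 : ℤ) ∣ (c : ℤ) - e) (h : (1 : ℤ) - 27 + e * c = D ∨ (1 : ℤ) - 27 + e * c = -D) : False := by
  have key : ∀ c ∈ degC, ∀ D ∈ degC, ∀ e ∈ ([1, -1] : List ℤ), (7 : ℤ) ∣ (c : ℤ) - e →
      ¬ ((1 : ℤ) - 27 + e * c = D ∨ (1 : ℤ) - 27 + e * c = -D) := by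
    decide +kernel
  exact key c hc D hD e (by rcases he with rfl | rfl <;> simp) h7 h

theorem card_u33 {S : Type u} [Group S] {F : Type} [Field F] [Fintype F] (hF : Fintype.card F = (3 ^ 1) ^ 2)
    (e : S ≃* PSU 3 F (3 ^ 1)) : Nat.card S = 6048 := by
  have h1 := card_eq (p := 3) (k := 1) Nat.prime_three (t := .U 3) (by decide) (X := S) ⟨F, _, _, hF, ⟨e⟩⟩
  have h2 : (Typ.U 3).D (3 ^ 1) * Nat.card S = (3 ^ 1) ^ (Typ.U 3).N * (Typ.U 3).P (3 ^ 1) := h1
  have h3 : (Typ.U 3).D (3 ^ 1) = 1 := by decide +kernel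
  have h4 : (3 ^ 1) ^ (Typ.U 3).N * (Typ.U 3).P (3 ^ 1) = 6048 := by decide +kernel
  rw [h3, h4, one_mul] at h2
  exact h2

theorem ord_u33 {S : Type u} [Group S] {F : Type} [Field F] [Fintype F] (hF : Fintype.card F = (3 ^ 1) ^ 2)
    (e : S ≃* PSU 3 F (3 ^ 1)) (g : S) (h : 7 ∣ orderOf g) : orderOf g = 7 := by
  have : Fact (Nat.Prime 3) := ⟨Nat.prime_three⟩
  have : CharP F 3 := H175.Eight.charP_of_card (k := 2) Nat.prime_three (by rw [hF]; norm_num)
  have h1 := H124.SUThreeEig.orderOf_dvd (F := F) (q := 3 ^ 1) hF 3 (e g)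
  have h2 : orderOf (e g) = orderOf g := orderOf_injective e.toMonoidHom e.injective g
  rw [h2] at h1
  norm_num at h1
  rcases h1 with h1 | h1 | h1 | h1
  · exact absurd (h.trans h1) (by norm_num)
  · exact absurd (h.trans h1) (by norm_num)
  · exact absurd (h.trans h1) (by norm_num)
  · exact Nat.dvd_antisymm h1 h

theorem u33_false {A : Type u} [Group A] [Finite A] (S : Subgroup A) [S.Normal] [IsSimpleGroup S] (h : SubD 9 A)
    {F : Type} [Field F] [Fintype F] (hF : Fintype.card F = (3 ^ 1) ^ 2) (e : S ≃* PSU 3 F (3 ^ 1))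
    (hl : IsLieTypeChar 3 S) (hind : S.index ∣ 2) : False := by
  classical
  have : Fact (Nat.Prime 3) := ⟨Nat.prime_three⟩
  have : Fact (Nat.Prime 7) := ⟨by norm_num⟩
  have hcard := card_u33 hF e
  have := Characters.Core.finite_irr (G := S)
  have := Fintype.ofFinite (IrrCharacter S)
  have hdeg : ∀ χ : IrrCharacter S, charDegree (χ : S → ℂ) ∈ degC := by
    intro χ
    obtain ⟨d, h1, h2, h3⟩ := h.over S (c := charDegree (χ : S → ℂ)) ⟨χ, rfl⟩
    have hpos : 0 < charDegree (χ : S → ℂ) := H686.CharKit.charDegree_pos χ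
    refine mem_degC (deg9 h1) ?_ ?_
    · obtain ⟨k, rfl⟩ := h2
      rw [Nat.mul_div_cancel_left _ hpos] at h3
      have h4 := h3.trans hind
      have h5 := Nat.le_of_dvd (by norm_num) h4
      have h6 : k ≠ 0 := by rintro rfl; simp at h4
      have h7 : k = 1 ∨ k = 2 := by omega
      rcases h7 with rfl | rfl
      · left; ring
      · right; ring
    · have h4 := H686.CharKit.sum_deg_sq (G := S)
      have h5 : (charDegree (χ : S → ℂ)) ^ 2 ≤ ∑ χ : IrrCharacter S, (charDegree (χ : S → ℂ)) ^ 2 :=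
        Finset.single_le_sum (f := fun χ : IrrCharacter S => (charDegree (χ : S → ℂ)) ^ 2) (fun _ _ => Nat.zero_le _)
          (Finset.mem_univ χ)
      rw [h4, hcard] at h5
      by_contra hcon
      have : 78 ^ 2 ≤ (charDegree (χ : S → ℂ)) ^ 2 := Nat.pow_le_pow_left (by omega) 2
      omega
  obtain ⟨φ1, d1⟩ := H175.Eight.exists_triv S
  obtain ⟨φ27, d27⟩ : ∃ φ : IrrCharacter S, charDegree (φ : S → ℂ) = 27 := by
    obtain ⟨χ, hχ, hχS, hχ1⟩ := H691.StExt.exists_ext S (H996.AllSplit.hasSplit_of_lie Nat.prime_three hl)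
    refine ⟨⟨_, hχS⟩, ?_⟩
    obtain ⟨Q⟩ := (inferInstance : Nonempty (Sylow 3 S))
    have h1 := hχ1 Q
    rw [Q.card_eq_multiplicity, hcard, show (6048 : ℕ) = 3 ^ 3 * 224 from rfl,
      Nat.factorization_mul (by norm_num) (by norm_num), Finsupp.add_apply,
      Nat.Prime.factorization_pow Nat.prime_three, Finsupp.single_eq_same,
      Nat.factorization_eq_zero_of_not_dvd (by norm_num)] at h1
    apply Blocks.Basic.charDegree_of_eq
    exact h1
  obtain ⟨NE, X, ε, D, B⟩ := H175.Eight.exists_blk (G := S) (p := 7) (by norm_num) hcard (by norm_num) (by norm_num)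
    (ord_u33 hF e) (e := 3) (t := 2) (by norm_num) (by
      intro e' h1 h2 h3
      have h4 := Nat.le_of_dvd (by norm_num) h1
      interval_cases e' <;> revert h1 h2 h3 <;> decide)
  have m1 : φ1 ∈ NE := B.mem_NE d1 (by norm_num) (by norm_num) (by norm_num)
  have m27 : φ27 ∈ NE := B.mem_NE d27 (by norm_num) (by norm_num) (by norm_num)
  have e1 : ε φ1 = 1 := B.sign_pos (by norm_num) m1 d1 (by norm_num)
  have e27 : ε φ27 = -1 := B.sign_neg (by norm_num) m27 d27 (by norm_num)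
  have n1 : φ1 ≠ φ27 := H175.Eight.ne_of_deg d1 d27 (by norm_num)
  obtain ⟨χ, hχ, hχn⟩ : ∃ χ ∈ NE, χ ∉ ({φ1, φ27} : Finset (IrrCharacter S)) := by
    by_contra hcon
    push Not at hcon
    have h1 := Finset.card_le_card (show NE ⊆ {φ1, φ27} from hcon)
    rw [B.card_NE] at h1
    have h2 := Finset.card_le_two (a := φ1) (b := φ27)
    omega
  simp only [Finset.mem_insert, Finset.mem_singleton, not_or] at hχn
  have hNE : NE = {φ1, φ27, χ} := by
    symm
    apply Finset.eq_of_subset_of_card_le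
    · intro x hx
      simp only [Finset.mem_insert, Finset.mem_singleton] at hx
      rcases hx with rfl | rfl | rfl <;> assumption
    · rw [B.card_NE, Finset.card_insert_of_notMem (by simp [n1, Ne.symm hχn.1]),
        Finset.card_insert_of_notMem (by simp [Ne.symm hχn.2]), Finset.card_singleton]
  obtain ⟨ξ, hξ⟩ : X.Nonempty := by rw [← Finset.card_pos, B.card_X]; norm_num
  have hD : D ∈ degC := by
    rw [← B.degX ξ hξ]
    exact hdeg ξ
  have hs := B.sum
  rw [hNE, Finset.sum_insert (by simp [n1, Ne.symm hχn.1]), Finset.sum_insert (by simp [Ne.symm hχn.2]),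
    Finset.sum_singleton, e1, e27, d1, d27] at hs
  refine degC_false (hdeg χ) hD (B.sign χ hχ) (B.congr χ hχ) ?_
  rcases hs with hs | hs
  · left
    rw [← hs]
    push_cast
    ring
  · right
    rw [← hs]
    push_cast
    ring

/-! ### the other groups -/

section kill

variable {n : ℕ} {A : Type u} [Group A] [Finite A] (S : Subgroup A) [S.Normal]

theorem SubD.kill (h : SubD n A) {c : ℕ} (hc : c ∈ charDegrees S) {L : List ℕ} (hL : ∀ d, IsDeg n d → d ∈ L)
    (hno : ∀ d ∈ L, ¬ c ∣ d) : False := by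
  obtain ⟨d, h1, h2, -⟩ := h.over S hc
  exact hno d (hL d h1) h2

theorem SubD.kill' (h : SubD n A) {c m : ℕ} (hc : c ∈ charDegrees S) {L : List ℕ} (hL : ∀ d, IsDeg n d → d ∈ L)
    (hi : S.index ∣ m) (hno : ∀ d ∈ L, c ∣ d → ¬ d / c ∣ m) : False := by
  obtain ⟨d, h1, h2, h3⟩ := h.over S hc
  exact hno d (hL d h1) h2 (h3.trans hi)

/-- the order and the Steinberg character -/
theorem SubD.st_card (h : SubD n A) [IsSimpleGroup S] {p : ℕ} (hp : p.Prime) (hl : IsLieTypeChar p S) {k m : ℕ}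
    (hc : Nat.card S = p ^ k * m) (hm : ¬ p ∣ m) : IsDeg n (p ^ k) := by
  have h1 := h.st S hp hl
  have hm0 : m ≠ 0 := by rintro rfl; exact hm (dvd_zero p)
  rwa [hc, Nat.factorization_mul (pow_ne_zero _ hp.ne_zero) hm0, Finsupp.add_apply,
    Nat.factorization_eq_zero_of_not_dvd hm, add_zero, hp.factorization_pow, Finsupp.single_eq_same] at h1

end kill

theorem card_typ {S : Type u} [Group S] {p k : ℕ} (hp : p.Prime) (t : Typ) (hv : t.Valid p k) (h : IsTyp t (p ^ k) S)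
    {d N : ℕ} (h1 : t.D (p ^ k) = d) (h2 : (p ^ k) ^ t.N * t.P (p ^ k) = d * N) (h0 : 0 < d) : Nat.card S = N := by
  have h3 : t.D (p ^ k) * Nat.card S = (p ^ k) ^ t.N * t.P (p ^ k) := card_eq hp hv h
  rw [h1, h2] at h3
  exact Nat.eq_of_mul_eq_mul_left h0 h3

/-- `PSL_2` over a field with `p ^ k` elements -/
theorem isLie_psl {S : Type u} [Group S] {F : Type} [Field F] [Fintype F] {p k m : ℕ} (hp : p.Prime)
    (hF : Fintype.card F = p ^ k) (hm : 2 ≤ m) (h4 : m = 2 → 4 ≤ Fintype.card F)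
    (e : S ≃* Matrix.ProjectiveSpecialLinearGroup (Fin m) F) : IsLieTypeChar p S :=
  Or.inl ⟨F, inferInstance, inferInstance, H175.Eight.charP_of_card hp hF, m, hm, h4, ⟨e⟩⟩

theorem exists_field (p k : ℕ) [Fact p.Prime] (hk : k ≠ 0) :
    ∃ (F : Type) (_ : Field F) (_ : Fintype F), Fintype.card F = p ^ k := by
  have : Finite (GaloisField p k) := Nat.finite_of_card_ne_zero (by
    rw [GaloisField.card p k hk]
    exact pow_ne_zero _ (Fact.out : p.Prime).ne_zero)
  refine ⟨GaloisField p k, inferInstance, Fintype.ofFinite _, ?_⟩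
  have h1 := @Nat.card_eq_fintype_card (GaloisField p k) (Fintype.ofFinite _)
  rw [← h1, GaloisField.card p k hk]

theorem mem_equiv {G H : Type*} [Group G] [Group H] (e : G ≃* H) {n : ℕ} (h : n ∈ charDegrees H) :
    n ∈ charDegrees G := H664.R1.PSLTwo.mem_of_equiv e h

/-- **LIE-SMALL.** -/
theorem lie_small {n : ℕ} (h5 : 5 ≤ n) (h9 : n ≤ 9) {A : Type u} [Group A] [Finite A] (S : Subgroup A) [S.Normal]
    [IsSimpleGroup S] {p : ℕ} (hp : p.Prime) (hl : IsLieTypeChar p S) (hind : S.index ∣ Nat.card (Cfsg.Out S))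
    (hd : SubD n A) : Nonempty (S ≃* alternatingGroup (Fin n)) := by
  have : Fact p.Prime := ⟨hp⟩
  have p2 : Fact (Nat.Prime 2) := ⟨Nat.prime_two⟩
  have p3 : Fact (Nat.Prime 3) := ⟨Nat.prime_three⟩
  have p7 : Fact (Nat.Prime 7) := ⟨by norm_num⟩
  obtain ⟨t, k, hv, ht, hdeg⟩ := hd.typ S hp hl
  have ha : 1 ≤ k * t.N := Nat.mul_pos (one_le_k hv) (N_pos hv)
  rcases pa_deg h5 h9 hp hdeg ha with ⟨rfl, h1⟩ | ⟨rfl, h1⟩ | ⟨rfl, h1⟩ | ⟨rfl, h1⟩
  · -- n = 5
    simp only [List.mem_cons, List.not_mem_nil, or_false, Prod.mk.injEq] at h1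
    rcases h1 with ⟨rfl, h1⟩ | ⟨rfl, h1⟩
    · have h2 := typ_five hv h1
      simp only [List.mem_cons, List.not_mem_nil, or_false, Prod.mk.injEq] at h2
      obtain ⟨rfl, rfl⟩ := h2
      obtain ⟨F, _, _, hF, ⟨e⟩⟩ := ht
      obtain ⟨e'⟩ := S0253.result (F := F) (by rw [hF]; norm_num)
      exact ⟨e.trans e'⟩
    · have h2 := typ_four hv h1
      simp only [List.mem_cons, List.not_mem_nil, or_false, Prod.mk.injEq] at h2
      obtain ⟨rfl, rfl⟩ := h2
      obtain ⟨F, _, _, hF, ⟨e⟩⟩ := ht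
      obtain ⟨e'⟩ := S0252.result (F := F) (by rw [hF]; norm_num)
      exact ⟨e.trans e'⟩
  · -- n = 6
    simp only [List.mem_cons, List.not_mem_nil, or_false, Prod.mk.injEq] at h1
    rcases h1 with ⟨rfl, h1⟩ | ⟨rfl, h1⟩ | ⟨rfl, h1⟩
    · exfalso
      have h2 := typ_five hv h1
      simp only [List.mem_cons, List.not_mem_nil, or_false, Prod.mk.injEq] at h2
      obtain ⟨rfl, rfl⟩ := h2
      have hc : Nat.card S = 60 := card_typ hp _ hv ht (d := 2) (by decide +kernel) (by decide +kernel) (by norm_num)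
      obtain ⟨F, _, _, hF, ⟨e⟩⟩ := ht
      obtain ⟨e'⟩ := S0253.result (F := F) (by rw [hF]; norm_num)
      obtain ⟨K, _, _, hK⟩ := exists_field 2 2 (by norm_num)
      obtain ⟨e2⟩ := S0252.result (F := K) (by rw [hK]; norm_num)
      have hl2 : IsLieTypeChar 2 S := isLie_psl Nat.prime_two hK le_rfl (fun _ => by rw [hK]; norm_num)
        ((e.trans e').trans e2.symm)
      have h3 := hd.st_card S Nat.prime_two hl2 (k := 2) (m := 15) (by rw [hc]; norm_num) (by norm_num)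
      exact absurd (deg6 h3) (by decide)
    · have h2 := typ_nine hv h1
      simp only [List.mem_cons, List.not_mem_nil, or_false, Prod.mk.injEq] at h2
      obtain ⟨rfl, rfl⟩ := h2
      obtain ⟨F, _, _, hF, ⟨e⟩⟩ := ht
      obtain ⟨e'⟩ := S0254.result (F := F) (by rw [hF]; norm_num)
      exact ⟨e.trans e'⟩
    · exfalso
      have h2 := typ_16 hv h1
      simp only [List.mem_cons, List.not_mem_nil, or_false, Prod.mk.injEq] at h2
      obtain ⟨rfl, rfl⟩ := h2
      obtain ⟨F, _, _, hF, ⟨e⟩⟩ := ht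
      have : CharP F 2 := H175.Eight.charP_of_card Nat.prime_two hF
      obtain ⟨-, h17, -⟩ := H664.R1.PSLTwo.degrees_even (F := F) (by rw [hF]; norm_num)
      rw [hF] at h17
      exact hd.kill S (mem_equiv e h17) (fun _ => deg6) (by decide +kernel)
  · -- n = 8
    simp only [List.mem_cons, List.not_mem_nil, or_false, Prod.mk.injEq] at h1
    rcases h1 with ⟨rfl, h1⟩ | ⟨rfl, h1⟩
    · exfalso
      have h2 := typ_seven hv h1
      simp only [List.mem_cons, List.not_mem_nil, or_false, Prod.mk.injEq] at h2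
      obtain ⟨rfl, rfl⟩ := h2
      have hc : Nat.card S = 168 := card_typ hp _ hv ht (d := 2) (by decide +kernel) (by decide +kernel) (by norm_num)
      obtain ⟨F, _, _, hF, ⟨e⟩⟩ := ht
      have hs : IsSimpleGroup (Matrix.ProjectiveSpecialLinearGroup (Fin 3) (ZMod 2)) := S0249.result 3 le_rfl
      have hc3 : Nat.card (Matrix.ProjectiveSpecialLinearGroup (Fin 3) (ZMod 2)) = 168 := by
        refine card_typ (k := 1) Nat.prime_two (.L 3) (by decide) ⟨ZMod 2, _, inferInstance, by rw [ZMod.card]; norm_num,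
          ⟨MulEquiv.refl _⟩⟩ (d := 1) (by decide +kernel) (by decide +kernel) (by norm_num)
      have : Finite (Matrix.ProjectiveSpecialLinearGroup (Fin 3) (ZMod 2)) :=
        Nat.finite_of_card_ne_zero (by rw [hc3]; norm_num)
      obtain ⟨e2⟩ := S0495.result hc3 (F := F) (by rw [hF]; norm_num)
      have hl2 : IsLieTypeChar 2 S := isLie_psl (k := 1) (F := ZMod 2) Nat.prime_two (by rw [ZMod.card]; norm_num)
        (m := 3) (by norm_num) (fun h => by omega) (e.trans e2.symm)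
      have h3 := hd.st_card S Nat.prime_two hl2 (k := 3) (m := 21) (by rw [hc]; norm_num) (by norm_num)
      exact absurd (deg8 h3) (by decide)
    · have h2 := typ_64 hv h1
      simp only [List.mem_cons, List.not_mem_nil, or_false, Prod.mk.injEq] at h2
      rcases h2 with ⟨rfl, rfl⟩ | ⟨rfl, rfl⟩ | ⟨rfl, rfl⟩ | ⟨rfl, rfl⟩ | ⟨rfl, rfl⟩ | ⟨rfl, rfl⟩
      · exfalso
        obtain ⟨F, _, _, hF, ⟨e⟩⟩ := ht
        have : CharP F 2 := H175.Eight.charP_of_card Nat.prime_two hF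
        obtain ⟨-, h17, -⟩ := H664.R1.PSLTwo.degrees_even (F := F) (by rw [hF]; norm_num)
        rw [hF] at h17
        exact hd.kill S (mem_equiv e h17) (fun _ => deg8) (by decide +kernel)
      · exfalso
        obtain ⟨F, _, _, hF, ⟨e⟩⟩ := ht
        have h63 := (H175.Eight.mem_l34 (F := F) (by rw [hF]; norm_num) 63).2 (by decide)
        exact hd.kill S (mem_equiv e h63) (fun _ => deg8) (by decide +kernel)
      · obtain ⟨F, _, _, hF, ⟨e⟩⟩ := ht
        obtain ⟨e'⟩ := S0256.result (F := F) (by rw [hF]; norm_num)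
        exact ⟨e.trans e'⟩
      · exfalso
        obtain ⟨F, _, _, hF, ⟨e⟩⟩ := ht
        have h65 := (H664.R1.U3.degrees hF (by norm_num) e).1
        exact hd.kill S h65 (fun _ => deg8) (by decide +kernel)
      · exfalso
        obtain ⟨F, _, _, hF, ⟨e⟩⟩ := ht
        obtain ⟨-, χ, -, h2, -, h24⟩ := H113.PSU.Left43.u42 (F := F) (by rw [hF]; norm_num)
        have h24' : 24 ∈ charDegrees (PSU 4 F (2 ^ 1)) := mem_charDegrees.2 ⟨χ, h2, by rw [h24]; norm_num⟩
        exact hd.kill S (mem_equiv e h24') (fun _ => deg8) (by decide +kernel)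
      · exfalso
        have hc : Nat.card S = 29120 := card_typ hp _ hv ht (d := 1) (by decide +kernel) (by decide +kernel) (by norm_num)
        obtain ⟨F, _, _, m, hF, hm, ⟨e⟩⟩ := ht
        have hm1 : m = 1 := by
          have := Nat.pow_right_injective (le_refl 2) hm
          omega
        subst hm1
        have p13 : Fact (Nat.Prime 13) := ⟨by norm_num⟩
        obtain ⟨χ, hχ⟩ := H732.DegSz.im S ⟨F, inferInstance, inferInstance, 1, le_rfl, hF, ⟨e⟩⟩ inferInstance (p := 13)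
          (by rw [hc]; norm_num)
        obtain ⟨d, h1, h2, -⟩ := hd.over S (c := charDegree (χ : S → ℂ)) ⟨χ, rfl⟩
        have h3 : ∀ d ∈ [1, 7, 14, 20, 21, 28, 35, 42, 56, 64, 70, 90], ¬ 13 ∣ d := by decide
        exact h3 d (deg8 h1) (hχ.trans h2)
  · -- n = 9
    simp only [List.mem_cons, List.not_mem_nil, or_false, Prod.mk.injEq] at h1
    exfalso
    rcases h1 with ⟨rfl, h1⟩ | ⟨rfl, h1⟩
    · have h2 := typ_8 hv h1
      simp only [List.mem_cons, List.not_mem_nil, or_false, Prod.mk.injEq] at h2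
      rcases h2 with ⟨rfl, rfl⟩ | ⟨rfl, rfl⟩
      · obtain ⟨F, _, _, hF, ⟨e⟩⟩ := ht
        have : CharP F 2 := H175.Eight.charP_of_card Nat.prime_two hF
        obtain ⟨-, -, h7⟩ := H664.R1.PSLTwo.degrees_even (F := F) (by rw [hF]; norm_num)
        rw [hF] at h7
        have ho : Nat.card (Out S) = 3 := by
          rw [Nat.card_congr (H234.OutGood.outCongr e).toEquiv,
            H60.HalfPsl.card_out (F := F) (p := 2) (f := 3) (by norm_num) hF (by norm_num)]
          decide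
        rw [ho] at hind
        exact hd.kill' S (mem_equiv e h7) (fun _ => deg9) hind (by decide +kernel)
      · have hc : Nat.card S = 168 := card_typ hp _ hv ht (d := 1) (by decide +kernel) (by decide +kernel) (by norm_num)
        obtain ⟨e2⟩ := S0495.result hc (F := ZMod 7) (by rw [ZMod.card])
        have hl2 : IsLieTypeChar 7 S := isLie_psl (k := 1) (F := ZMod 7) (by norm_num) (by rw [ZMod.card]; norm_num)
          (m := 2) le_rfl (fun _ => by rw [ZMod.card]; norm_num) e2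
        have h3 := hd.st_card S (by norm_num) hl2 (k := 1) (m := 24) (by rw [hc]; norm_num) (by norm_num)
        exact absurd (deg9 h3) (by decide)
    · have h2 := typ_27 hv h1
      simp only [List.mem_cons, List.not_mem_nil, or_false, Prod.mk.injEq] at h2
      rcases h2 with ⟨rfl, rfl⟩ | ⟨rfl, rfl⟩ | ⟨rfl, rfl⟩
      · obtain ⟨F, _, _, hF, ⟨e⟩⟩ := ht
        obtain ⟨-, -, h26⟩ := H664.R1.PSLTwo.degrees_odd (F := F) (by rw [hF]; decide) (by rw [hF]; norm_num)
        rw [hF] at h26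
        exact hd.kill S (mem_equiv e h26) (fun _ => deg9) (by decide +kernel)
      · obtain ⟨F, _, _, hF, ⟨e⟩⟩ := ht
        have h13 := (H175.Eight.mem_l33 (F := F) (by rw [hF]; norm_num) 13).2 (by decide)
        exact hd.kill S (mem_equiv e h13) (fun _ => deg9) (by decide +kernel)
      · obtain ⟨F, _, _, hF, ⟨e⟩⟩ := ht
        have ho : Nat.card (Out S) = 2 := by
          rw [Nat.card_congr (H234.OutGood.outCongr e).toEquiv,
            H149.PGU.card_out_psu (p := 3) (f := 1) le_rfl rfl hF le_rfl (by norm_num)]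
          decide
        rw [ho] at hind
        exact u33_false S hd hF e hl hind

end Cfsg.Agent.H657.DS
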